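import Groth.Agent.H56.KProj.Twist
import Groth.Agent.H83.ProjPCCrit.Twist
import Groth.Agent.Lib.H70.KRRReg.Chart
import Groth.Agent.Lib.DerivedOX.RestrictRpush
import Groth.Agent.Lib.DerivedOX.RpushCoprod
import Groth.Agent.Lib.DerivedOX.PullPushAdj
import Groth.Agent.Lib.PerfVanish.Affine
import Groth.Agent.Lib.DerivedOX.ProjectionLocal
import Groth.Agent.S1067

/-!
# The twists `O(d)`, `0 ≤ d ≤ r`, detect zero objects of `D_QCoh(P^r_S)` relative to the base
-/

set_option autoImplicit false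
set_option linter.style.haveILetI false
set_option linter.unusedSectionVars false

universe u

open CategoryTheory CategoryTheory.Limits AlgebraicGeometry

attribute [local instance] HasDerivedCategory.standard

namespace Groth.Agent.H56.KProj

open Groth.Agent.Lib Groth.Agent.Lib.DerivedOX Groth.Agent.Lib.TensorMod.Basic
open Groth.Agent.Lib.Perfect.Basic Groth.Agent.Lib.Perfect.Triangle
open Groth.Agent.Lib.H70.KRRReg (Chart.emb Chart.twistIso Chart.opensRange_emb)
open Groth.Agent.H83 (AmpleGen.tw AmpleGen.PT)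

section Commute

variable {X U : Scheme.{u}} (j : U ⟶ X) [IsOpenImmersion j] {L : X.Modules} {M : U.Modules}
  (e : L.restrict j ≅ M)

/-- Restriction commutes with twisting. -/
noncomputable def twRestrict :
    AmpleGen.tw L ⋙ Scheme.Modules.restrictFunctor j ≅
      Scheme.Modules.restrictFunctor j ⋙ AmpleGen.tw M :=
  NatIso.ofComponents
    (fun G => TensorMod.Pullback.restrictTensorIso j G L ≪≫ tensorIso (Iso.refl _) e)
    fun {G G'} g => by
      let ρ := Scheme.Modules.restrictFunctorIsoPullback j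
      change (Scheme.Modules.restrictFunctor j).map (tmap g (𝟙 L)) ≫
          (ρ.hom.app _ ≫ TensorMod.Pullback.delta j G' L ≫ tmap (ρ.inv.app G') (ρ.inv.app L)) ≫
            tmap (𝟙 _) e.hom =
        ((ρ.hom.app _ ≫ TensorMod.Pullback.delta j G L ≫ tmap (ρ.inv.app G) (ρ.inv.app L)) ≫
            tmap (𝟙 _) e.hom) ≫ tmap ((Scheme.Modules.restrictFunctor j).map g) (𝟙 M)
      simp only [Category.assoc]
      erw [← Category.assoc, ρ.hom.naturality, Category.assoc]
      congr 1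
      rw [← Category.assoc, TensorMod.Pullback.delta_natural, Category.assoc]
      congr 1
      simp only [← tmap_comp, Category.comp_id, Category.id_comp]
      congr 1
      · exact ρ.inv.naturality g
      · erw [(Scheme.Modules.pullback j).map_id, Category.id_comp]

include e in
/-- Restriction commutes with twisting in the derived category. -/
theorem nonempty_twRestrictD [(AmpleGen.tw L).IsEquivalence] [(AmpleGen.tw M).IsEquivalence]
    (K : DCoh.D X) :
    Nonempty ((RD j).obj ((AmpleGen.tw L).mapDerivedCategory.obj K) ≅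
      (AmpleGen.tw M).mapDerivedCategory.obj ((RD j).obj K)) := by
  let E := DerivedCategory.Q.objPreimage K
  let eE := DerivedCategory.Q.objObjPreimageIso K
  let c : (rC j).obj (((AmpleGen.tw L).mapHomologicalComplex (ComplexShape.up ℤ)).obj E) ≅
      ((AmpleGen.tw M).mapHomologicalComplex (ComplexShape.up ℤ)).obj ((rC j).obj E) :=
    HomologicalComplex.Hom.isoOfComponents (fun i => (twRestrict j e).app (E.X i))
      fun p q _ => ((twRestrict j e).hom.naturality (E.d p q)).symm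
  exact ⟨(RD j).mapIso ((AmpleGen.tw L).mapDerivedCategory.mapIso eE.symm ≪≫
      (AmpleGen.tw L).mapDerivedCategoryFactors.app E) ≪≫ RDQ j _ ≪≫ DerivedCategory.Q.mapIso c ≪≫
    ((AmpleGen.tw M).mapDerivedCategoryFactors.app _).symm ≪≫
    (AmpleGen.tw M).mapDerivedCategory.mapIso ((RDQ j E).symm ≪≫ (RD j).mapIso eE)⟩

end Commute

variable {r : ℕ} {S : Scheme.{u}} [DCoh.HasRpush (KRR.pr r S)]

/-- No maps from `O` over a chart to an object killed by `Rf_*`. -/
theorem hom_one_eq_zero {M : DCoh.D (KRR.PY r S)}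
    (h : IsZero ((DCoh.Rpush (KRR.pr r S)).obj M)) {V : S.Opens} (hV : IsAffineOpen V) (m : ℤ)
    (φ : (CompactUnit.oneD (CohB1.ProjSpace r Γ(S, V)))⟦m⟧ ⟶ (RD (Chart.emb hV)).obj M) : φ = 0 := by
  let f := KRR.pr r S
  let W := f ⁻¹ᵁ V
  haveI := Exists.hasRpush (f ∣_ V)
  haveI := LeftExists.hasLpull (f ∣_ V)
  have hW : ∀ χ : (CompactUnit.oneD (W : Scheme.{u}))⟦m⟧ ⟶ (RD W.ι).obj M, χ = 0 := fun χ => by
    obtain ⟨e₁⟩ := RpushCoprod.nonempty_Lpull_one (f ∣_ V)
    have hz : IsZero ((DCoh.Rpush (f ∣_ V)).obj ((RD W.ι).obj M)) :=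
      ((DCoh.restrictD V.ι).map_isZero h).of_iso ((RestrictRpush.restrictD_Rpush_iso f V).app M).symm
    apply (cancel_epi ((shiftFunctor _ m).map e₁.hom)).1
    rw [comp_zero]
    apply (cancel_epi (((DCoh.Lpull (f ∣_ V)).commShiftIso m).hom.app _)).1
    rw [comp_zero]
    exact ((PullPushAdj.derivedAdjunction (f ∣_ V)).homEquiv _ _).injective (hz.eq_of_tgt _ _)
  have hr : Set.range (Chart.emb (n := r) hV) ⊆ Set.range W.ι := by
    rw [Scheme.Opens.range_ι]
    exact (congrArg (fun Z : (KRR.PY r S).Opens => (Z : Set (KRR.PY r S))) (Chart.opensRange_emb hV)).le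
  have hr' : Set.range W.ι ⊆ Set.range (Chart.emb (n := r) hV) := by
    rw [Scheme.Opens.range_ι]
    exact (congrArg (fun Z : (KRR.PY r S).Opens => (Z : Set (KRR.PY r S))) (Chart.opensRange_emb hV)).ge
  let k := IsOpenImmersion.lift W.ι (Chart.emb hV) hr
  let l := IsOpenImmersion.lift (Chart.emb (n := r) hV) W.ι hr'
  have hlk : l ≫ k = 𝟙 _ := by
    rw [← cancel_mono W.ι, Category.assoc, IsOpenImmersion.lift_fac, IsOpenImmersion.lift_fac,
      Category.id_comp]
  have hkl : k ≫ l = 𝟙 _ := by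
    rw [← cancel_mono (Chart.emb (n := r) hV), Category.assoc, IsOpenImmersion.lift_fac,
      IsOpenImmersion.lift_fac, Category.id_comp]
  haveI : IsIso l := ⟨k, hlk, hkl⟩
  haveI : (RD l).Faithful := PerfVanish.Affine.faithful_RD l k hkl
  let e : (RD l).obj ((RD (Chart.emb hV)).obj M) ≅ (RD W.ι).obj M :=
    (RDComp l (Chart.emb hV) M).symm ≪≫ RDCongr (IsOpenImmersion.lift_fac _ _ hr') M
  apply (RD l).map_injective
  rw [Functor.map_zero]
  apply (cancel_epi ((shiftFunctor _ m).map (CompactUnit.restrictOneIso l).inv ≫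
    ((RD l).commShiftIso m).inv.app _)).1
  rw [comp_zero]
  apply (cancel_mono e.hom).1
  rw [zero_comp]
  exact hW _

/-- Generation relative to the base. -/
theorem isZero_of_twists {K : DCoh.D (KRR.PY r S)} (hK : DCoh.IsQCohD K)
    (h : ∀ d : ℕ, d ≤ r → IsZero ((DCoh.Rpush (KRR.pr r S)).obj ((TD (d : ℤ)).obj K))) :
    IsZero K := by
  refine OpenSupport.isZero_of_restrictD (fun V : S.affineOpens => KRR.pr r S ⁻¹ᵁ V.1) ?_ K fun V => ?_
  · rw [← Scheme.Hom.preimage_iSup, iSup_affineOpens_eq_top, Scheme.Hom.preimage_top]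
  let hV := V.2
  let j := Chart.emb (n := r) hV
  have h0 : IsZero ((RD j).obj K) := by
    refine Groth.Agent.S1067.result r Γ(S, V.1) _ (PerfVanish.Affine.isQCohD_RD j hK) fun d hd m φ => ?_
    haveI := Groth.Agent.H83.ProjPCCrit.faithful_Tq r Γ(S, V.1) (d : ℤ)
    apply (Groth.Agent.H83.ProjPCCrit.Tq r Γ(S, V.1) (d : ℤ)).map_injective
    rw [Functor.map_zero]
    obtain ⟨c⟩ := nonempty_twRestrictD j (Chart.twistIso hV (d : ℤ)) K
    obtain ⟨a⟩ := Groth.Agent.H83.ProjPCCrit.nonempty_Tq_one r Γ(S, V.1) (-(d : ℤ)) m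
    obtain ⟨b⟩ := Groth.Agent.H83.ProjPCCrit.nonempty_Tq_cancel r Γ(S, V.1) (-(d : ℤ)) (d : ℤ)
      (neg_add_cancel _) ((CompactUnit.oneD (CohB1.ProjSpace r Γ(S, V.1)))⟦m⟧)
    let t := (Twist.twistProjSpace r Γ(S, V.1) (-(d : ℤ)))
    let u₁ : AmpleGen.PT r Γ(S, V.1) (-(d : ℤ)) ≅ t := Iso.refl _
    let src : (CompactUnit.oneD (CohB1.ProjSpace r Γ(S, V.1)))⟦m⟧ ≅
        (Groth.Agent.H83.ProjPCCrit.Tq r Γ(S, V.1) (d : ℤ)).obj
          ((DCoh.inD (CohB1.ProjSpace r Γ(S, V.1)) t)⟦m⟧) :=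
      b.symm ≪≫ (Groth.Agent.H83.ProjPCCrit.Tq r Γ(S, V.1) (d : ℤ)).mapIso (a ≪≫
        (shiftFunctor _ m).mapIso ((DerivedCategory.singleFunctor _ 0).mapIso u₁))
    let tg : (RD j).obj ((TD (d : ℤ)).obj K) ≅
        (Groth.Agent.H83.ProjPCCrit.Tq r Γ(S, V.1) (d : ℤ)).obj ((RD j).obj K) :=
      (RD j).mapIso ((derivedCongr _ _ (tlIso (r := r) (S := S) (d : ℤ))).app K) ≪≫ c
    apply (cancel_epi src.hom).1
    rw [comp_zero]
    apply (cancel_mono tg.inv).1
    rw [zero_comp]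
    exact hom_one_eq_zero (h d hd) hV m _
  have hr' : Set.range (KRR.pr r S ⁻¹ᵁ V.1).ι ⊆ Set.range j := by
    rw [Scheme.Opens.range_ι]
    exact (congrArg (fun Z : (KRR.PY r S).Opens => (Z : Set (KRR.PY r S))) (Chart.opensRange_emb hV)).ge
  let l := IsOpenImmersion.lift j (KRR.pr r S ⁻¹ᵁ V.1).ι hr'
  exact ((RD l).map_isZero h0).of_iso
    (RDCongr (IsOpenImmersion.lift_fac j _ hr').symm K ≪≫ RDComp l j K)

end Groth.Agent.H56.KProj
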