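import Groth.Agent.H56.KProj.Twist
import Groth.Agent.Lib.RightAdjTensor.Finite
import Groth.Agent.Lib.DerivedOX.ProjectionPerfect
import Groth.Agent.Lib.DerivedOX.SingleTensor
import Groth.Agent.Lib.DerivedOX.TensorSymm
import Groth.Agent.Lib.DerCat.KInjExists

/-!
# The projection formula on perfect objects: the unit and the twists
-/

set_option autoImplicit false
set_option linter.style.haveILetI false
set_option linter.unusedSectionVars false

universe u

open CategoryTheory CategoryTheory.Limits AlgebraicGeometry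

attribute [local instance] HasDerivedCategory.standard

namespace Groth.Agent.H56.KProj

open Groth.Agent.Lib Groth.Agent.Lib.DerivedOX

/-- A natural endomorphism-compatible splitting forces an isomorphism. -/
lemma isIso_of_commuting {C : Type*} [Category C] {G : C} {e r : G ⟶ G} (h : e ≫ r = 𝟙 G)
    (hc : e ≫ r = r ≫ e) : IsIso e := ⟨r, h, hc.symm.trans h⟩

lemma sq3 {C : Type*} [Category C] {A₀ A₁ A₂ A₃ B₀ B₁ B₂ B₃ : C} {v₀ : A₀ ⟶ B₀} {v₁ : A₁ ⟶ B₁}
    {v₂ : A₂ ⟶ B₂} {v₃ : A₃ ⟶ B₃} {p : A₀ ⟶ A₁} {q : A₁ ⟶ A₂} {r : A₂ ⟶ A₃} {p' : B₀ ⟶ B₁}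
    {q' : B₁ ⟶ B₂} {r' : B₂ ⟶ B₃} (h1 : v₀ ≫ p' = p ≫ v₁) (h2 : v₁ ≫ q' = q ≫ v₂)
    (h3 : v₂ ≫ r' = r ≫ v₃) : v₀ ≫ p' ≫ q' ≫ r' = (p ≫ q ≫ r) ≫ v₃ := by
  rw [← Category.assoc v₀, h1, Category.assoc, ← Category.assoc v₁, h2, Category.assoc, h3]
  simp only [Category.assoc]

variable {X Y : Scheme.{u}} (f : X ⟶ Y) [DCoh.HasRpush f] [DCoh.HasLpull f]

/-- If `Rf_*𝒪 ≅ 𝒪`, the unit is invertible at perfect objects. -/
theorem isIso_unit
    (a : (DCoh.Rpush f).obj (DCoh.inD X (Coh.structureModule X)) ≅ DCoh.inD Y (Coh.structureModule Y))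
    {K : DCoh.D Y} (hK : DCoh.IsPerfect K) :
    IsIso ((PullPushAdj.derivedAdjunction f).unit.app K) := by
  obtain ⟨I, i, hI, hi⟩ := DerCat.KInjExists.hasKInjRes (DualFree.one X)
  haveI := hI
  haveI := hi
  let B := (KFlat.res Y).obj ((GammaAcyclic.pushC f).obj I)
  let g : B ⟶ (GammaAcyclic.pushC f).obj I := (KFlat.aug Y).app _
  haveI : QuasiIso g := KFlat.quasiIso_aug _
  haveI := LeftExists.hasLTensorCx B
  haveI := LeftExists.hasLTensorCx I
  obtain ⟨J, j, hJ, hj⟩ := DerCat.KInjExists.hasKInjRes B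
  haveI := hJ
  haveI := hj
  haveI := LeftExists.hasLTensorCx J
  haveI : IsIso (DerivedCategory.Q.map i) := (DerivedCategory.isIso_Q_map_iff_quasiIso _ _).2 hi
  haveI : IsIso (DerivedCategory.Q.map g) :=
    (DerivedCategory.isIso_Q_map_iff_quasiIso _ _).2 inferInstance
  haveI : IsIso (DerivedCategory.Q.map j) := (DerivedCategory.isIso_Q_map_iff_quasiIso _ _).2 hj
  haveI := UnitCx.isIso_unitCx_of_isKInjective f I
  let eI : DerivedCategory.Q.obj I ≅ DCoh.inD X (Coh.structureModule X) :=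
    (asIso (DerivedCategory.Q.map i)).symm ≪≫
      ((DerivedCategory.singleFunctorIsoCompQ X.Modules 0).app _).symm
  let eJ : DerivedCategory.Q.obj (DualFree.one Y) ≅ DerivedCategory.Q.obj J :=
    ((DerivedCategory.singleFunctorIsoCompQ Y.Modules 0).app _).symm ≪≫ a.symm ≪≫
      (DCoh.Rpush f).mapIso eI.symm ≪≫ (asIso ((UnitCx.unitCx f).app I)).symm ≪≫
      (asIso (DerivedCategory.Q.map g)).symm ≪≫ asIso (DerivedCategory.Q.map j)
  obtain ⟨t, ht⟩ := (DualCompare.Q_map_bijective_aux (T := DualFree.one Y) (J := J)).1 eJ.hom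
  haveI : QuasiIso t := (DerivedCategory.isIso_Q_map_iff_quasiIso _ _).1 (by rw [ht]; infer_instance)
  obtain ⟨θ₁⟩ := RightAdjTensor.Trace.nonempty_LTensorCx_congr j
  obtain ⟨θ₂⟩ := RightAdjTensor.Finite.nonempty_tensorUnit J t
  obtain ⟨θ₃⟩ := RightAdjTensor.Finite.nonempty_tensorUnit I i
  let p := ProjectionMap.projMap f g
  haveI : IsIso (p.app K) := ProjectionPerfect.isIso_projMap_of_isPerfect hK
  let D := PullPushAdj.derivedAdjunction f
  let φ : ∀ G : DCoh.D Y, G ⟶ (DCoh.Rpush f).obj ((DCoh.Lpull f).obj G) := fun G =>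
    (θ₁ ≪≫ θ₂).inv.app G ≫ p.app G ≫ (DCoh.Rpush f).map (θ₃.hom.app ((DCoh.Lpull f).obj G))
  have hnat : ∀ {G G' : DCoh.D Y} (v : G ⟶ G'),
      v ≫ φ G' = φ G ≫ (DCoh.Rpush f).map ((DCoh.Lpull f).map v) := fun {G G'} v => by
    refine sq3 ((θ₁ ≪≫ θ₂).inv.naturality v) (p.naturality v) ?_
    exact ((DCoh.Rpush f).map_comp _ _).symm.trans ((congrArg (DCoh.Rpush f).map
      (θ₃.hom.naturality ((DCoh.Lpull f).map v))).trans ((DCoh.Rpush f).map_comp _ _))
  haveI hφ : IsIso (φ K) := by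
    have : IsIso ((θ₁ ≪≫ θ₂).inv.app K) := inferInstance
    have : IsIso ((DCoh.Rpush f).map (θ₃.hom.app ((DCoh.Lpull f).obj K))) := inferInstance
    exact @IsIso.comp_isIso _ _ _ _ _ _ _ inferInstance
      (@IsIso.comp_isIso _ _ _ _ _ _ _ inferInstance inferInstance)
  let ψ := (D.homEquiv K _).symm (φ K)
  have hψ : φ K = D.unit.app K ≫ (DCoh.Rpush f).map ψ := by
    exact ((D.homEquiv K _).apply_symm_apply (φ K)).symm.trans (D.homEquiv_unit ..)
  let e : K ⟶ K := D.unit.app K ≫ inv (φ K)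
  let r : K ⟶ K := φ K ≫ (DCoh.Rpush f).map ψ ≫ inv (φ K)
  have her : e ≫ r = 𝟙 K := by
    simp only [e, r, Category.assoc, IsIso.inv_hom_id_assoc]
    rw [← Category.assoc, ← hψ, IsIso.hom_inv_id]
  have hcomm : ∀ v : K ⟶ K, v ≫ r = r ≫ v := fun v => by
    have hψv : (DCoh.Lpull f).map v ≫ ψ = ψ ≫ (DCoh.Lpull f).map v := by
      simp only [ψ]
      rw [← D.homEquiv_naturality_left_symm, hnat v, D.homEquiv_naturality_right_symm]
    refine sq3 (v₂ := (DCoh.Rpush f).map ((DCoh.Lpull f).map v)) (hnat v) ?_ ?_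
    · exact ((DCoh.Rpush f).map_comp _ _).symm.trans ((congrArg (DCoh.Rpush f).map hψv).trans
        ((DCoh.Rpush f).map_comp _ _))
    · rw [IsIso.eq_inv_comp, ← Category.assoc, IsIso.comp_inv_eq]
      exact (hnat v).symm
  haveI : IsIso e := isIso_of_commuting her (hcomm e)
  have : D.unit.app K = e ≫ φ K := by simp [e]
  change IsIso (D.unit.app K)
  rw [this]
  infer_instance

/-- If `Rf_*M = 0`, then `Rf_*(M ⊗ Lf^*K) = 0` for perfect `K`. -/
theorem isZero_Rpush_tensor {M : X.Modules}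
    [PreservesFiniteLimits ((DCoh.tensorBi (X := X)).obj M)]
    [PreservesFiniteColimits ((DCoh.tensorBi (X := X)).obj M)]
    (h : IsZero ((DCoh.Rpush f).obj (DCoh.inD X M))) {K : DCoh.D Y} (hK : DCoh.IsPerfect K) :
    IsZero ((DCoh.Rpush f).obj
      (((DCoh.tensorBi (X := X)).obj M).mapDerivedCategory.obj ((DCoh.Lpull f).obj K))) := by
  let S₀ := (HomologicalComplex.single X.Modules (ComplexShape.up ℤ) 0).obj M
  obtain ⟨I, s, hI, hs⟩ := DerCat.KInjExists.hasKInjRes S₀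
  haveI := hI
  haveI := hs
  let B := (KFlat.res Y).obj ((GammaAcyclic.pushC f).obj I)
  let g : B ⟶ (GammaAcyclic.pushC f).obj I := (KFlat.aug Y).app _
  haveI : QuasiIso g := KFlat.quasiIso_aug _
  haveI := LeftExists.hasLTensorCx B
  haveI := LeftExists.hasLTensorCx I
  haveI : IsIso (DerivedCategory.Q.map s) := (DerivedCategory.isIso_Q_map_iff_quasiIso _ _).2 hs
  haveI : IsIso (DerivedCategory.Q.map g) :=
    (DerivedCategory.isIso_Q_map_iff_quasiIso _ _).2 inferInstance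
  haveI := UnitCx.isIso_unitCx_of_isKInjective f I
  have hB : IsZero (DerivedCategory.Q.obj B) :=
    h.of_iso (asIso (DerivedCategory.Q.map g) ≪≫ asIso ((UnitCx.unitCx f).app I) ≪≫
      (DCoh.Rpush f).mapIso ((asIso (DerivedCategory.Q.map s)).symm ≪≫
        ((DerivedCategory.singleFunctorIsoCompQ X.Modules 0).app M).symm))
  haveI : IsIso ((ProjectionMap.projMap f g).app K) :=
    ProjectionPerfect.isIso_projMap_of_isPerfect hK
  have hsrc : IsZero ((DCoh.LTensorCx B).obj K) := by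
    obtain ⟨P, hP, ⟨eP⟩⟩ := QCohLocal.exists_kflat K
    obtain ⟨c₁⟩ := QCohLocal.nonempty_LTensorCx_iso B hP
    obtain ⟨Z₀, hZ₀⟩ := HasZeroObject.zero (C := CochainComplex Y.Modules ℤ)
    obtain ⟨c₂⟩ := QCohLocal.nonempty_tensor_iso hP (B' := Z₀)
      (hB.iso (DerivedCategory.Q.map_isZero hZ₀))
    exact (DerivedCategory.Q.map_isZero ((DCoh.tensorCx.obj P).map_isZero hZ₀)).of_iso
      ((DCoh.LTensorCx B).mapIso eP.symm ≪≫ c₁ ≪≫ c₂)
  have htgt := hsrc.of_iso (asIso ((ProjectionMap.projMap f g).app K)).symm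
  obtain ⟨P', hP', ⟨eP'⟩⟩ := QCohLocal.exists_kflat ((DCoh.Lpull f).obj K)
  obtain ⟨d₁⟩ := QCohLocal.nonempty_LTensorCx_iso I hP'
  obtain ⟨d₂⟩ := QCohLocal.nonempty_tensor_iso hP' (asIso (DerivedCategory.Q.map s))
  let d₃ : DerivedCategory.Q.obj ((DCoh.tensorCx.obj P').obj S₀) ≅
      DerivedCategory.Q.obj
        ((((DCoh.tensorBi (X := X)).obj M).mapHomologicalComplex (ComplexShape.up ℤ)).obj P') :=
    DerivedCategory.Q.mapIso (TensorSymm.commCx P' S₀ ≪≫
      ((SingleTensor.singleZeroIso (DCoh.tensorBi (X := X)) M).app P').symm)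
  refine htgt.of_iso ((DCoh.Rpush f).mapIso ?_)
  exact ((DCoh.tensorBi (X := X)).obj M).mapDerivedCategory.mapIso eP'.symm ≪≫
    ((DCoh.tensorBi (X := X)).obj M).mapDerivedCategoryFactors.app P' ≪≫
    d₃.symm ≪≫ d₂ ≪≫ d₁.symm ≪≫ (DCoh.LTensorCx I).mapIso eP'

end Groth.Agent.H56.KProj
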