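import Groth.Agent.H56.KProj.Vanish
import Groth.Agent.H56.KProj.Unit
import Groth.Agent.H56.KProj.Gen
import Groth.Agent.Lib.DerivedOX.RpushTriangulated
import Groth.Agent.Lib.Perfect.QCohD
import Groth.Agent.S1002
import Groth.Prelude.Def_SGA6

/-!
# `K^•(P^r_S)` is free over `K^•(S)` on the twists
-/

set_option autoImplicit false
set_option linter.style.haveILetI false
set_option linter.unusedSectionVars false

universe v u

open CategoryTheory CategoryTheory.Limits CategoryTheory.Pretriangulated AlgebraicGeometry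
open scoped ZeroObject

attribute [local instance] HasDerivedCategory.standard

namespace Groth.Agent.H56.KProj

open Groth.Agent.Lib

section K0

variable {C : Type u} [Category.{v} C] [Preadditive C] [HasZeroObject C] [HasShift C ℤ]
  [∀ n : ℤ, (shiftFunctor C n).Additive] [Pretriangulated C] {P : ObjectProperty C}

lemma clTr_eq {X : C} (h : P X) :
    KZero.clTr P X = QuotientAddGroup.mk (FreeAbelianGroup.of ⟨X, h⟩) := dif_pos h

lemma clTr_triangle (T : Triangle C) (hT : T ∈ distTriang C) (h₁ : P T.obj₁) (h₂ : P T.obj₂)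
    (h₃ : P T.obj₃) : KZero.clTr P T.obj₂ = KZero.clTr P T.obj₁ + KZero.clTr P T.obj₃ := by
  rw [clTr_eq h₁, clTr_eq h₂, clTr_eq h₃, ← QuotientAddGroup.mk_add]
  refine (QuotientAddGroup.eq_iff_sub_mem).2 (AddSubgroup.subset_closure ?_)
  exact ⟨T, h₁, h₂, h₃, hT, by abel⟩

lemma clTr_zero {X : C} (h : IsZero X) (hX : P X) : KZero.clTr P X = 0 := by
  have hh := clTr_triangle (P := P) (Triangle.mk (𝟙 X) (0 : X ⟶ X) 0)
    (isomorphic_distinguished _ (contractible_distinguished X) _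
      (Triangle.isoMk _ _ (Iso.refl _) (Iso.refl _) (h.iso (isZero_zero C))
        (h.eq_of_src _ _) (h.eq_of_src _ _) (h.eq_of_src _ _))) hX hX hX
  simpa using hh

lemma clTr_congr {X Y : C} (e : X ≅ Y) (hX : P X) (hY : P Y) [P.ContainsZero] [P.IsClosedUnderIsomorphisms] :
    KZero.clTr P X = KZero.clTr P Y := by
  have hz : P (0 : C) := P.prop_of_isZero (isZero_zero C)
  have hh := clTr_triangle (P := P) (Triangle.mk e.hom (0 : Y ⟶ 0) 0)
    (isomorphic_distinguished _ (contractible_distinguished X) _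
      (Triangle.isoMk _ _ (Iso.refl _) e.symm (Iso.refl _)
        (e.hom_inv_id.trans (Category.id_comp _).symm)
        (zero_comp.trans comp_zero.symm) (zero_comp.trans comp_zero.symm))) hX hY hz
  change KZero.clTr P Y = KZero.clTr P X + KZero.clTr P (0 : C) at hh
  rw [clTr_zero (isZero_zero C) hz, add_zero] at hh
  exact hh.symm

lemma K0_induction {p : KZero.K0tr P → Prop} (h0 : p 0) (hc : ∀ X, P X → p (KZero.clTr P X))
    (hn : ∀ x, p x → p (-x)) (ha : ∀ x y, p x → p y → p (x + y)) (x : KZero.K0tr P) : p x := by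
  induction x using QuotientAddGroup.induction_on with
  | H z =>
    induction z using FreeAbelianGroup.induction_on with
    | zero => exact h0
    | of X => have := hc X.1 X.2; rwa [clTr_eq X.2] at this
    | neg X h => exact hn _ h
    | add a b ha' hb' => exact ha _ _ ha' hb'

variable {D : Type u} [Category.{v} D] [Preadditive D] [HasZeroObject D] [HasShift D ℤ]
  [∀ n : ℤ, (shiftFunctor D n).Additive] [Pretriangulated D] {Q : ObjectProperty D}

lemma mapTr_clTr (F : C ⥤ D) [F.CommShift ℤ] [F.IsTriangulated] (h : ∀ X, P X → Q (F.obj X)) {X : C}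
    (hX : P X) : SGA6.mapTr F P Q h (KZero.clTr P X) = KZero.clTr Q (F.obj X) := by
  rw [clTr_eq hX, clTr_eq (h X hX)]
  rfl

end K0

section Main

variable {r : ℕ} {S : Scheme.{u}}

instance containsZero_perfP (X : Scheme.{u}) : (SGA6.perfP X).ContainsZero :=
  ⟨⟨_, isZero_zero _, Gen43.Generator.isPerfect_of_isZero (isZero_zero _)⟩⟩

instance closedUnderIso_perfP (X : Scheme.{u}) : (SGA6.perfP X).IsClosedUnderIsomorphisms :=
  ⟨fun e h => Perfect.Triangle.isPerfect_of_iso e h⟩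

variable [DCoh.HasRpush (KRR.pr r S)]

theorem isPerfect_Rpush {K : DCoh.D (KRR.PY r S)} (hK : DCoh.IsPerfect K) :
    DCoh.IsPerfect ((DCoh.Rpush (KRR.pr r S)).obj K) := by
  haveI := ProjSpace.BaseChange.isProper_toBase (n := r) S
  haveI : Smooth (CohB1.ProjSpaceOver.toBase r S) := ProjSpace.BaseChange.smooth_toBase (n := r) S
  exact Groth.Agent.S1002.result (KRR.pr r S) K hK

/-- `K ↦ Rf_*(K(-j))`. -/
noncomputable def psi (j : ℤ) : SGA6.Kperf (KRR.PY r S) →+ SGA6.Kperf S :=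
  (SGA6.mapTr (DCoh.Rpush (KRR.pr r S)) (SGA6.perfP _) (SGA6.perfP S) fun _ h => isPerfect_Rpush h).comp
    (SGA6.mapTr (TD (-j)) (SGA6.perfP _) (SGA6.perfP _) fun _ h => isPerfect_TD _ h)

theorem psi_cl (j : ℤ) {K : DCoh.D (KRR.PY r S)} (hK : DCoh.IsPerfect K) :
    psi j (KZero.clTr (SGA6.perfP _) K) =
      KZero.clTr (SGA6.perfP S) ((DCoh.Rpush (KRR.pr r S)).obj ((TD (-j)).obj K)) := by
  simp only [psi, AddMonoidHom.comp_apply]
  rw [mapTr_clTr _ _ hK, mapTr_clTr _ _ (isPerfect_TD _ hK)]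

variable [DCoh.HasLpull (KRR.pr r S)] [(DCoh.Lpull (KRR.pr r S)).CommShift ℤ]
  [(DCoh.Lpull (KRR.pr r S)).IsTriangulated]

/-- `(Lf^*G)(d)`. -/
noncomputable abbrev Φ (d : ℤ) (G : DCoh.D S) : DCoh.D (KRR.PY r S) :=
  (TD (r := r) (S := S) d).obj ((DCoh.Lpull (KRR.pr r S)).obj G)

/-- `Rf_*((Lf^*G)(d)) = 0` for `-r ≤ d ≤ -1`. -/
theorem isZero_Rpush_phi {d : ℤ} (hd : -(r : ℤ) ≤ d) (hd' : d < 0) {G : DCoh.D S}
    (hG : DCoh.IsPerfect G) : IsZero ((DCoh.Rpush (KRR.pr r S)).obj (Φ (r := r) d G)) :=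
  isZero_Rpush_tensor (KRR.pr r S) (isZero_Rpush_twist hd hd') hG

/-- `Rf_*((Lf^*G)(i)(-i)) ≅ G`. -/
theorem nonempty_Rpush_phi (i : ℤ) {G : DCoh.D S} (hG : DCoh.IsPerfect G) :
    Nonempty ((DCoh.Rpush (KRR.pr r S)).obj ((TD (-i)).obj (Φ (r := r) i G)) ≅ G) := by
  obtain ⟨a⟩ := nonempty_Rpush_one (r := r) (S := S)
  haveI := isIso_unit (KRR.pr r S) a hG
  exact ⟨(DCoh.Rpush (KRR.pr r S)).mapIso
    ((TDadd i (-i) 0 (add_neg_cancel i) ≪≫ TDzero).app _) ≪≫
    (asIso ((DerivedOX.PullPushAdj.derivedAdjunction (KRR.pr r S)).unit.app G)).symm⟩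

theorem isZero_Rpush_phi' {i j : ℤ} (hij : i < j) (hj : j - i ≤ r) {G : DCoh.D S}
    (hG : DCoh.IsPerfect G) :
    IsZero ((DCoh.Rpush (KRR.pr r S)).obj ((TD (-j)).obj (Φ (r := r) i G))) :=
  (isZero_Rpush_phi (d := i - j) (by omega) (by omega) hG).of_iso
    ((DCoh.Rpush (KRR.pr r S)).mapIso ((TDadd i (-j) (i - j) (by omega)).app _))

variable (hf : ∀ K : DCoh.D S, DCoh.IsPerfect K → DCoh.IsPerfect ((DCoh.Lpull (KRR.pr r S)).obj K))

/-- `x ↦ (f^*x)(i)`. -/
noncomputable def phi (i : ℤ) : SGA6.Kperf S →+ SGA6.Kperf (KRR.PY r S) :=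
  (SGA6.mapTr (TD i) (SGA6.perfP _) (SGA6.perfP _) fun _ h => isPerfect_TD i h).comp
    (SGA6.mapTr (DCoh.Lpull (KRR.pr r S)) (SGA6.perfP S) (SGA6.perfP _) hf)

theorem phi_cl (i : ℤ) {G : DCoh.D S} (hG : DCoh.IsPerfect G) :
    phi hf i (KZero.clTr (SGA6.perfP S) G) = KZero.clTr (SGA6.perfP _) (Φ (r := r) i G) := by
  simp only [phi, AddMonoidHom.comp_apply]
  rw [mapTr_clTr _ _ hG, mapTr_clTr _ _ (hf _ hG)]

theorem psi_phi_self (i : ℤ) (x : SGA6.Kperf S) : psi i (phi hf i x) = x := by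
  refine K0_induction (p := fun x => psi i (phi hf i x) = x) (by simp) (fun G hG => ?_)
    (fun y hy => by simp [hy]) (fun y z hy hz => by simp [hy, hz]) x
  rw [phi_cl hf i hG, psi_cl i (isPerfect_TD i (hf _ hG))]
  obtain ⟨e⟩ := nonempty_Rpush_phi (r := r) i hG
  exact clTr_congr e (isPerfect_Rpush (isPerfect_TD _ (isPerfect_TD i (hf _ hG)))) hG

theorem psi_phi_lt {i j : ℤ} (hij : i < j) (hj : j - i ≤ r) (x : SGA6.Kperf S) :
    psi j (phi hf i x) = 0 := by
  refine K0_induction (p := fun x => psi j (phi hf i x) = 0) (by simp) (fun G hG => ?_)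
    (fun y hy => by simp [hy]) (fun y z hy hz => by simp [hy, hz]) x
  rw [phi_cl hf i hG, psi_cl j (isPerfect_TD i (hf _ hG))]
  exact clTr_zero (isZero_Rpush_phi' hij hj hG)
    (isPerfect_Rpush (isPerfect_TD _ (isPerfect_TD i (hf _ hG))))

/-- Injectivity. -/
theorem injective_sum :
    Function.Injective (fun x : Fin (r + 1) → SGA6.Kperf S => ∑ i : Fin (r + 1), phi hf ((i : ℕ) : ℤ) (x i)) := by
  intro x y hxy
  refine sub_eq_zero.1 ?_
  have hz : ∑ i : Fin (r + 1), phi hf ((i : ℕ) : ℤ) ((x - y) i) = 0 := by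
    simp only [Pi.sub_apply, map_sub, Finset.sum_sub_distrib]
    exact sub_eq_zero.2 hxy
  suffices h : ∀ n : ℕ, ∀ i : Fin (r + 1), r < (i : ℕ) + n → (x - y) i = 0 from
    funext fun i => h (r + 1) i (by omega)
  intro n
  induction n with
  | zero => intro i hi; have := i.2; omega
  | succ n ih =>
    intro j hj
    by_cases hj' : r < (j : ℕ) + n
    · exact ih j hj'
    have h := congrArg (psi (r := r) (S := S) ((j : ℕ) : ℤ)) hz
    rw [map_sum, map_zero, Finset.sum_eq_single j] at h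
    · rwa [psi_phi_self] at h
    · intro i _ hij
      rcases lt_trichotomy (i : ℕ) (j : ℕ) with h' | h' | h'
      · exact psi_phi_lt hf (by omega) (by have := j.2; omega) _
      · exact absurd (Fin.ext h') hij
      · rw [ih i (by omega), map_zero, map_zero]
    · intro h'; exact absurd (Finset.mem_univ j) h'

/-- Surjectivity. -/
theorem surjective_sum :
    Function.Surjective (fun x : Fin (r + 1) → SGA6.Kperf S => ∑ i : Fin (r + 1), phi hf ((i : ℕ) : ℤ) (x i)) := by
  classical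
  let R : AddSubgroup (SGA6.Kperf (KRR.PY r S)) :=
    ⨆ i : Fin (r + 1), (phi hf ((i : ℕ) : ℤ)).range
  have key : ∀ (n : ℕ), n ≤ r + 1 → ∀ K : DCoh.D (KRR.PY r S), DCoh.IsPerfect K →
      (∀ j : ℕ, n ≤ j → j ≤ r → IsZero ((DCoh.Rpush (KRR.pr r S)).obj ((TD (-(j : ℤ))).obj K))) →
      KZero.clTr (SGA6.perfP _) K ∈ R := by
    intro n
    induction n with
    | zero =>
      intro _ K hK h
      have hz : IsZero ((TD (-(r : ℤ))).obj K) := by
        refine isZero_of_twists (Perfect.QCohD.isQCohD_of_isPerfect (isPerfect_TD _ hK)) fun d hd => ?_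
        exact (h (r - d) (Nat.zero_le _) (Nat.sub_le r d)).of_iso ((DCoh.Rpush (KRR.pr r S)).mapIso
          ((TDadd (-(r : ℤ)) (d : ℤ) (-((r - d : ℕ) : ℤ)) (by omega)).app K))
      have : IsZero K := ((TD (r : ℤ)).map_isZero hz).of_iso
        ((TDadd (-(r : ℤ)) (r : ℤ) 0 (neg_add_cancel _) ≪≫ TDzero).app K).symm
      rw [clTr_zero this hK]
      exact R.zero_mem
    | succ n ih =>
      intro hn K hK h
      let D := DerivedOX.PullPushAdj.derivedAdjunction (KRR.pr r S)
      let G := (DCoh.Rpush (KRR.pr r S)).obj ((TD (-(n : ℤ))).obj K)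
      have hG : DCoh.IsPerfect G := isPerfect_Rpush (isPerfect_TD _ hK)
      let c := (TDadd (r := r) (S := S) (-(n : ℤ)) (n : ℤ) 0 (neg_add_cancel _) ≪≫ TDzero).app K
      let β : Φ (r := r) (n : ℤ) G ⟶ K := (TD (n : ℤ)).map (D.counit.app _) ≫ c.hom
      obtain ⟨C, g, δ, hT⟩ := distinguished_cocone_triangle β
      have hΦ : DCoh.IsPerfect (Φ (r := r) (n : ℤ) G) := isPerfect_TD _ (hf _ hG)
      have hC : DCoh.IsPerfect C := Perfect.Triangle.isPerfect₂
        (rot_of_distTriang _ hT) hK (Perfect.Triangle.isPerfect_shift hΦ 1)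
      have h2 := clTr_triangle (P := SGA6.perfP _) _ hT hΦ hK hC
      change KZero.clTr (SGA6.perfP _) K = _ at h2
      rw [h2]
      refine R.add_mem ?_ (ih (by omega) C hC fun j hj hjr => ?_)
      · change KZero.clTr (SGA6.perfP _) (Φ (r := r) (n : ℤ) G) ∈ R
        rw [← phi_cl hf (n : ℤ) hG]
        exact AddSubgroup.mem_iSup_of_mem (⟨n, by omega⟩ : Fin (r + 1)) ⟨_, rfl⟩
      · have hT' := (DCoh.Rpush (KRR.pr r S)).map_distinguished _ ((TD (-(j : ℤ))).map_distinguished _ hT)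
        refine (Triangle.isZero₃_iff_isIso₁ _ hT').2 ?_
        change IsIso ((DCoh.Rpush (KRR.pr r S)).map ((TD (-(j : ℤ))).map β))
        rcases Nat.lt_or_ge n j with hnj | hnj
        · exact DerivedOX.OpenSupport.isIso_of_zero _
            (isZero_Rpush_phi' (by omega) (by omega) hG) (h j (by omega) hjr)
        obtain rfl : j = n := by omega
        haveI : IsIso (D.unit.app G) := isIso_unit (KRR.pr r S) (nonempty_Rpush_one (r := r) (S := S)).some hG
        haveI : IsIso ((DCoh.Rpush (KRR.pr r S)).map (D.counit.app ((TD (-(j : ℤ))).obj K))) :=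
          IsIso.of_isIso_fac_left (D.right_triangle_components ((TD (-(j : ℤ))).obj K))
        haveI : IsIso ((DCoh.Rpush (KRR.pr r S)).map
            ((TD (-(j : ℤ))).map ((TD (j : ℤ)).map (D.counit.app ((TD (-(j : ℤ))).obj K))))) := by
          let ν := TDadd (r := r) (S := S) (j : ℤ) (-(j : ℤ)) 0 (add_neg_cancel _) ≪≫ TDzero
          exact (NatIso.isIso_map_iff (Functor.isoWhiskerRight ν (DCoh.Rpush (KRR.pr r S))) _).2
            (by assumption)
        simp only [β, Functor.map_comp]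
        infer_instance
  intro z
  have hz : z ∈ R := by
    refine K0_induction (p := fun w => w ∈ R) R.zero_mem (fun K hK => key (r + 1) le_rfl K hK fun j hj hjr => absurd hj (by omega))
      (fun _ => R.neg_mem) (fun _ _ => R.add_mem) z
  refine AddSubgroup.iSup_induction _ (C := fun w => ∃ x : Fin (r + 1) → SGA6.Kperf S,
    ∑ i : Fin (r + 1), phi hf ((i : ℕ) : ℤ) (x i) = w) hz ?_ ⟨0, by simp⟩ ?_
  · rintro i w ⟨y, rfl⟩
    refine ⟨Pi.single i y, ?_⟩
    rw [Finset.sum_eq_single i]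
    · rw [Pi.single_eq_same]
    · intro b _ hb
      rw [Pi.single_eq_of_ne hb, map_zero]
    · intro h'; exact absurd (Finset.mem_univ i) h'
  · rintro a b ⟨x, rfl⟩ ⟨y, rfl⟩
    exact ⟨x + y, by simp [Finset.sum_add_distrib]⟩

end Main

end Groth.Agent.H56.KProj
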