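import Groth.Agent.H83.ProjPCCrit.Twist
import Groth.Agent.Lib.DerivedOX.PullTensor
import Groth.Agent.H73.RegSeq
import Groth.Agent.Lib.PicProjOver.Basic

/-!
# Derived twists on `P^r_S`
-/

set_option autoImplicit false
set_option linter.style.haveILetI false
set_option linter.unusedSectionVars false

universe w v u

open CategoryTheory CategoryTheory.Limits AlgebraicGeometry

attribute [local instance] HasDerivedCategory.standard

namespace Groth.Agent.H56.KProj

section Gen

variable {C : Type u} [Category.{v} C] [Abelian C] [HasDerivedCategory.{w} C]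
  (T₁ T₂ T₃ : C ⥤ C) [T₁.Additive] [T₂.Additive] [T₃.Additive]
  [PreservesFiniteLimits T₁] [PreservesFiniteColimits T₁] [PreservesFiniteLimits T₂]
  [PreservesFiniteColimits T₂] [PreservesFiniteLimits T₃] [PreservesFiniteColimits T₃]

/-- Composition on derived categories. -/
noncomputable def derivedComp (v : T₁ ⋙ T₂ ≅ T₃) :
    T₁.mapDerivedCategory ⋙ T₂.mapDerivedCategory ≅ T₃.mapDerivedCategory :=
  let C₁ := T₁.mapHomologicalComplex (ComplexShape.up ℤ)
  let C₂ := T₂.mapHomologicalComplex (ComplexShape.up ℤ)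
  let C₃ := T₃.mapHomologicalComplex (ComplexShape.up ℤ)
  let vC : C₁ ⋙ C₂ ≅ C₃ :=
    NatIso.ofComponents (fun E => HomologicalComplex.Hom.isoOfComponents (fun i => v.app (E.X i))
      fun i j _ => (v.hom.naturality (E.d i j)).symm)
      fun {E E'} g => HomologicalComplex.hom_ext _ _ fun i => v.hom.naturality (g.f i)
  letI : Localization.Lifting DerivedCategory.Q (HomologicalComplex.quasiIso C (ComplexShape.up ℤ))
      ((C₁ ⋙ C₂) ⋙ DerivedCategory.Q) (T₁.mapDerivedCategory ⋙ T₂.mapDerivedCategory) :=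
    ⟨(Functor.associator _ _ _).symm ≪≫ Functor.isoWhiskerRight T₁.mapDerivedCategoryFactors _ ≪≫
      Functor.associator _ _ _ ≪≫ Functor.isoWhiskerLeft C₁ T₂.mapDerivedCategoryFactors ≪≫
      (Functor.associator _ _ _).symm⟩
  letI : Localization.Lifting DerivedCategory.Q (HomologicalComplex.quasiIso C (ComplexShape.up ℤ))
      (C₃ ⋙ DerivedCategory.Q) T₃.mapDerivedCategory := ⟨T₃.mapDerivedCategoryFactors⟩
  Localization.liftNatIso DerivedCategory.Q (HomologicalComplex.quasiIso C (ComplexShape.up ℤ))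
    ((C₁ ⋙ C₂) ⋙ DerivedCategory.Q) (C₃ ⋙ DerivedCategory.Q)
    (T₁.mapDerivedCategory ⋙ T₂.mapDerivedCategory) T₃.mapDerivedCategory
    (Functor.isoWhiskerRight vC DerivedCategory.Q)

/-- The identity on derived categories. -/
noncomputable def derivedId (v : T₁ ≅ 𝟭 C) : T₁.mapDerivedCategory ≅ 𝟭 (DerivedCategory C) :=
  let C₁ := T₁.mapHomologicalComplex (ComplexShape.up ℤ)
  let vC : C₁ ≅ 𝟭 (CochainComplex C ℤ) :=
    NatIso.ofComponents (fun E => HomologicalComplex.Hom.isoOfComponents (fun i => v.app (E.X i))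
      fun i j _ => (v.hom.naturality (E.d i j)).symm)
      fun {E E'} g => HomologicalComplex.hom_ext _ _ fun i => v.hom.naturality (g.f i)
  letI : Localization.Lifting DerivedCategory.Q (HomologicalComplex.quasiIso C (ComplexShape.up ℤ))
      (C₁ ⋙ DerivedCategory.Q) T₁.mapDerivedCategory := ⟨T₁.mapDerivedCategoryFactors⟩
  letI : Localization.Lifting DerivedCategory.Q (HomologicalComplex.quasiIso C (ComplexShape.up ℤ))
      (𝟭 (CochainComplex C ℤ) ⋙ DerivedCategory.Q) (𝟭 (DerivedCategory C)) :=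
    ⟨Functor.rightUnitor _ ≪≫ (Functor.leftUnitor _).symm⟩
  Localization.liftNatIso DerivedCategory.Q (HomologicalComplex.quasiIso C (ComplexShape.up ℤ))
    (C₁ ⋙ DerivedCategory.Q) (𝟭 (CochainComplex C ℤ) ⋙ DerivedCategory.Q)
    T₁.mapDerivedCategory (𝟭 (DerivedCategory C)) (Functor.isoWhiskerRight vC DerivedCategory.Q)

/-- Isomorphic functors. -/
noncomputable def derivedCongr (v : T₁ ≅ T₃) : T₁.mapDerivedCategory ≅ T₃.mapDerivedCategory :=
  let C₁ := T₁.mapHomologicalComplex (ComplexShape.up ℤ)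
  let C₃ := T₃.mapHomologicalComplex (ComplexShape.up ℤ)
  let vC : C₁ ≅ C₃ :=
    NatIso.ofComponents (fun E => HomologicalComplex.Hom.isoOfComponents (fun i => v.app (E.X i))
      fun i j _ => (v.hom.naturality (E.d i j)).symm)
      fun {E E'} g => HomologicalComplex.hom_ext _ _ fun i => v.hom.naturality (g.f i)
  letI : Localization.Lifting DerivedCategory.Q (HomologicalComplex.quasiIso C (ComplexShape.up ℤ))
      (C₁ ⋙ DerivedCategory.Q) T₁.mapDerivedCategory := ⟨T₁.mapDerivedCategoryFactors⟩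
  letI : Localization.Lifting DerivedCategory.Q (HomologicalComplex.quasiIso C (ComplexShape.up ℤ))
      (C₃ ⋙ DerivedCategory.Q) T₃.mapDerivedCategory := ⟨T₃.mapDerivedCategoryFactors⟩
  Localization.liftNatIso DerivedCategory.Q (HomologicalComplex.quasiIso C (ComplexShape.up ℤ))
    (C₁ ⋙ DerivedCategory.Q) (C₃ ⋙ DerivedCategory.Q)
    T₁.mapDerivedCategory T₃.mapDerivedCategory (Functor.isoWhiskerRight vC DerivedCategory.Q)

end Gen

open Groth.Agent.Lib Groth.Agent.Lib.TensorMod.Basic Groth.Agent.H83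

variable {r : ℕ} {S : Scheme.{u}}

/-- `O(d) ⊗ -`. -/
noncomputable abbrev tl (d : ℤ) : (KRR.PY r S).Modules ⥤ (KRR.PY r S).Modules :=
  (DCoh.tensorBi (X := KRR.PY r S)).obj (Twist.twistOver r S d)

/-- `O(d) ⊗ - ≅ - ⊗ O(d)`. -/
noncomputable def tlIso (d : ℤ) : tl (r := r) (S := S) d ≅ AmpleGen.tw (Twist.twistOver r S d) :=
  NatIso.ofComponents (fun G => comm _ G) fun {G G'} g => by
    change ((DCoh.tensorBi (X := KRR.PY r S)).obj (Twist.twistOver r S d)).map g ≫ _ = _
    rw [DerivedOX.PullTensor.tensorBi_obj_map]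
    exact comm_natural (𝟙 _) g

instance isEquivalence_tw' (d : ℤ) :
    (AmpleGen.tw (Twist.twistOver r S d)).IsEquivalence :=
  AmpleGen.isEquivalence_tw (PicProjOver.isInvertible_twistOver r S d)

instance isEquivalence_tl (d : ℤ) : (tl (r := r) (S := S) d).IsEquivalence :=
  Functor.isEquivalence_of_iso (tlIso d).symm

instance preservesFiniteLimits_tl (d : ℤ) : PreservesFiniteLimits (tl (r := r) (S := S) d) :=
  inferInstance

instance preservesFiniteColimits_tl (d : ℤ) : PreservesFiniteColimits (tl (r := r) (S := S) d) :=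
  inferInstance

/-- The derived twist. -/
noncomputable abbrev TD (d : ℤ) : DCoh.D (KRR.PY r S) ⥤ DCoh.D (KRR.PY r S) :=
  (tl (r := r) (S := S) d).mapDerivedCategory

/-- `O(b) ⊗ (O(a) ⊗ -) ≅ O(c) ⊗ -`. -/
noncomputable def tlAdd (a b c : ℤ) (h : a + b = c) :
    tl (r := r) (S := S) a ⋙ tl b ≅ tl c :=
  Functor.isoWhiskerRight (tlIso a) _ ≪≫ Functor.isoWhiskerLeft _ (tlIso b) ≪≫
    AmpleGen.twAssoc _ _ ≪≫
    ProjPCCrit.twCongr (H73.RegSeq.overTensor a b ≪≫ eqToIso (by rw [h])) ≪≫ (tlIso c).symm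

/-- Twists compose. -/
noncomputable def TDadd (a b c : ℤ) (h : a + b = c) : TD (r := r) (S := S) a ⋙ TD b ≅ TD c :=
  derivedComp _ _ _ (tlAdd a b c h)

/-- `O(0) ⊗ - ≅ 𝟭`. -/
noncomputable def TDzero : TD (r := r) (S := S) 0 ≅ 𝟭 _ :=
  derivedId _ (tlIso 0 ≪≫ ProjPCCrit.twCongr H73.RegSeq.overZero ≪≫
    NatIso.ofComponents (fun G => rightUnit G) fun g => rightUnit_natural g)

theorem isPerfect_TD (d : ℤ) {K : DCoh.D (KRR.PY r S)} (hK : DCoh.IsPerfect K) :
    DCoh.IsPerfect ((TD d).obj K) :=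
  Perfect.Triangle.isPerfect_of_iso
    ((derivedCongr _ _ (tlIso (r := r) (S := S) d)).app K).symm
    (ProjPCCrit.isPerfect_tw _ (PicProjOver.isInvertible_twistOver r S d) hK)

instance isEquivalence_TD (d : ℤ) : (TD (r := r) (S := S) d).IsEquivalence :=
  (CategoryTheory.Equivalence.mk (TD d) (TD (-d))
    (TDadd d (-d) 0 (add_neg_cancel d) ≪≫ TDzero).symm
    (TDadd (-d) d 0 (neg_add_cancel d) ≪≫ TDzero)).isEquivalence_functor

end Groth.Agent.H56.KProj
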