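import Groth.Agent.S4471
import Groth.Agent.S11319
import Groth.Agent.S11115
import Groth.Agent.Lib.DerivedOX.RpushQCoh
import Groth.Agent.Lib.ExchangeFP29.KPush.TwistPush
import Groth.Agent.Lib.ExchangeFP29.RegSheaf
import Groth.Agent.Lib.DerivedOX.Grothendieck
import Groth.Agent.Lib.DerivedOX.OpenSupport
import Groth.Agent.Lib.ProjSpace.BaseChange
import Groth.Agent.H73.RegSeq

/-!
# `Rf_*` of the small twists on `P^r_S`
-/

set_option autoImplicit false
set_option linter.style.haveILetI false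
set_option linter.unusedSectionVars false

universe u

open CategoryTheory CategoryTheory.Limits AlgebraicGeometry

attribute [local instance] HasDerivedCategory.standard

namespace Groth.Agent.H56.KProj

open Groth.Agent.Lib Groth.Agent.Lib.DerivedOX

variable {r : ℕ} {S : Scheme.{u}} [DCoh.HasRpush (KRR.pr r S)]

theorem isZero_HD_Rpush_twist {d : ℤ} {i : ℤ} (hd : -(r : ℤ) ≤ d) (hi : i ≠ 0 ∨ d < 0) :
    IsZero (DCoh.HD ((DCoh.Rpush (KRR.pr r S)).obj
      (DCoh.inD (KRR.PY r S) (Twist.twistOver r S d))) i) := by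
  haveI := ProjSpace.BaseChange.isProper_toBase (n := r) S
  rcases lt_or_ge i 0 with h0 | h0
  · haveI : (DCoh.inD (KRR.PY r S) (Twist.twistOver r S d)).IsGE 0 := inferInstance
    haveI := Groth.Agent.S11115.result (KRR.pr r S) (DCoh.inD (KRR.PY r S) (Twist.twistOver r S d)) 0
    exact DerivedCategory.isZero_of_isGE _ 0 i h0
  obtain ⟨k, rfl⟩ := Int.eq_ofNat_of_zero_le h0
  haveI := DerivedOX.Grothendieck.enoughInjectives_modules (KRR.PY r S)
  haveI : HasInjectiveResolutions (KRR.PY r S).Modules := inferInstance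
  obtain ⟨a⟩ := RpushQCoh.nonempty_HD_Rpush (KRR.pr r S)
    (DCoh.inD _ (Twist.twistOver r S d)) (k : ℤ)
  obtain ⟨b⟩ := RpushQCoh.nonempty_RS_iso (KRR.pr r S) (Twist.twistOver r S d) k
  obtain ⟨c⟩ := Groth.Agent.S11319.result (KRR.pr r S) (Twist.twistOver r S d) k
  refine IsZero.of_iso ?_ (a ≪≫ b)
  exact ExchangeFP29.RegSheaf.isZero_of_toAb
    (IsZero.of_iso (Groth.Agent.S4471.result S r k d (by omega)) c)

/-- `Rf_*O(d) = 0` for `-r ≤ d ≤ -1`. -/
theorem isZero_Rpush_twist {d : ℤ} (hd : -(r : ℤ) ≤ d) (hd' : d < 0) :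
    IsZero ((DCoh.Rpush (KRR.pr r S)).obj (DCoh.inD (KRR.PY r S) (Twist.twistOver r S d))) :=
  OpenSupport.isZero_of_homology _ fun i => isZero_HD_Rpush_twist hd (Or.inr hd')

/-- `Rf_*O ≅ O`. -/
theorem nonempty_Rpush_one :
    Nonempty ((DCoh.Rpush (KRR.pr r S)).obj
        (DCoh.inD (KRR.PY r S) (Coh.structureModule (KRR.PY r S))) ≅
      DCoh.inD S (Coh.structureModule S)) := by
  let e₀ : DCoh.inD (KRR.PY r S) (Twist.twistOver r S 0) ≅
      DCoh.inD (KRR.PY r S) (Coh.structureModule (KRR.PY r S)) :=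
    (DerivedCategory.singleFunctor _ 0).mapIso H73.RegSeq.overZero
  let R := (DCoh.Rpush (KRR.pr r S)).obj (DCoh.inD (KRR.PY r S) (Twist.twistOver r S 0))
  haveI : R.IsGE 0 := (DerivedCategory.isGE_iff _ _).2 fun i hi =>
    isZero_HD_Rpush_twist (by omega) (Or.inl (by omega))
  haveI : R.IsLE 0 := (DerivedCategory.isLE_iff _ _).2 fun i hi =>
    isZero_HD_Rpush_twist (by omega) (Or.inl (by omega))
  obtain ⟨A, ⟨eA⟩⟩ := R.exists_iso_singleFunctor_obj_of_isGE_of_isLE 0
  haveI := DerivedOX.Grothendieck.enoughInjectives_modules (KRR.PY r S)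
  haveI : HasInjectiveResolutions (KRR.PY r S).Modules := inferInstance
  obtain ⟨a⟩ := RpushQCoh.nonempty_HD_Rpush (KRR.pr r S)
    (DCoh.inD _ (Twist.twistOver r S 0)) ((0 : ℕ) : ℤ)
  obtain ⟨b⟩ := RpushQCoh.nonempty_RS_iso (KRR.pr r S) (Twist.twistOver r S 0) 0
  haveI : PreservesFiniteLimits (Scheme.Modules.pushforward (KRR.pr r S)) :=
    haveI : PreservesLimitsOfSize.{0, 0} (Scheme.Modules.pushforward (KRR.pr r S)) :=
      (Scheme.Modules.pullbackPushforwardAdjunction (KRR.pr r S)).rightAdjoint_preservesLimits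
    PreservesLimitsOfSize.preservesFiniteLimits _
  obtain ⟨p⟩ := ExchangeFP29.KPush.TwistPush.nonempty_push (n := r) 0 S
  let eF : FlatMod.freeMod S ((r + 0).choose 0) ≅ Coh.structureModule S :=
    eqToIso (by rw [Nat.choose_zero_right]) ≪≫ TensorMod.LocFree.freeModOneIso S
  let eH : A ≅ Coh.structureModule S :=
    ((DerivedCategory.singleFunctorCompHomologyFunctorIso S.Modules 0).app A).symm ≪≫
      (DerivedCategory.homologyFunctor S.Modules 0).mapIso eA.symm ≪≫
      (a ≪≫ b ≪≫ (Scheme.Modules.pushforward (KRR.pr r S)).rightDerivedZeroIsoSelf.app _) ≪≫ p ≪≫ eF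
  exact ⟨(DCoh.Rpush (KRR.pr r S)).mapIso e₀.symm ≪≫ eA ≪≫
    (DerivedCategory.singleFunctor S.Modules 0).mapIso eH⟩

end Groth.Agent.H56.KProj
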